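import Mathlib

open scoped TensorProduct
namespace H9SmallExt

variable (C : Type*) [CommRing C] (A : Type*) [CommRing A] [Algebra C A] (M : Type*) [AddCommGroup M]
  [Module A M] [Module C M] [IsScalarTower C A M] (J : Ideal C)

noncomputable def e : M ⊗[C] ↥J →ₗ[A] M :=
  (TensorProduct.AlgebraTensorModule.rid C A M).toLinearMap ∘ₗ
    TensorProduct.AlgebraTensorModule.lTensor A M (Submodule.subtype J)

lemma e_apply (z : M ⊗[C] ↥J) :
    e C A M J z = TensorProduct.rid C M (LinearMap.lTensor M (Submodule.subtype J) z) := by
  induction z using TensorProduct.induction_on with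
  | zero => simp
  | tmul x j => simp [e]
  | add x y hx hy => simp [map_add, hx, hy]

lemma e_injective [Module.Flat C M] : Function.Injective (e C A M J) := by
  intro a b h
  rw [e_apply, e_apply] at h
  exact Module.Flat.lTensor_preserves_injective_linearMap _ J.injective_subtype ((TensorProduct.rid C M).injective h)

lemma range_e : LinearMap.range (e C A M J) = (J.map (algebraMap C A)) • (⊤ : Submodule A M) := by
  refine le_antisymm ?_ ?_
  · rintro _ ⟨z, rfl⟩
    induction z using TensorProduct.induction_on with
    | zero => simp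
    | tmul x j =>
      have : e C A M J (x ⊗ₜ j) = algebraMap C A j • x := by simp [e]
      rw [this]
      exact Submodule.smul_mem_smul (Ideal.mem_map_of_mem _ j.2) trivial
    | add x y hx hy => rw [map_add]; exact add_mem hx hy
  · rw [Submodule.smul_le]
    intro a ha x _
    induction ha using Submodule.span_induction with
    | mem b hb => obtain ⟨c, hc, rfl⟩ := hb; exact ⟨x ⊗ₜ ⟨c, hc⟩, by simp [e]⟩
    | zero => simp
    | add b c _ _ hb hc => rw [add_smul]; exact add_mem hb hc
    | smul r b _ hb => rw [smul_eq_mul, mul_smul]; exact Submodule.smul_mem _ r hb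

variable {C} (m : Ideal C)

lemma smul_tensor_eq_zero (h : m * J = ⊥) {c : C} (hc : c ∈ m) (z : M ⊗[C] ↥J) : c • z = 0 := by
  induction z using TensorProduct.induction_on with
  | zero => simp
  | tmul x j =>
    rw [← TensorProduct.tmul_smul]
    have : c • j = 0 := Subtype.ext (by
      have := Ideal.mul_mem_mul hc j.2
      rw [h] at this
      simpa using this)
    rw [this, TensorProduct.tmul_zero]
  | add x y hx hy => rw [smul_add, hx, hy, add_zero]

noncomputable def q : M ⊗[C] ↥J →ₗ[A] (M ⧸ (m.map (algebraMap C A)) • (⊤ : Submodule A M)) ⊗[C] ↥J :=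
  TensorProduct.AlgebraTensorModule.rTensor C ↥J (Submodule.mkQ _)

lemma q_apply (z : M ⊗[C] ↥J) : q A M J m z = LinearMap.rTensor ↥J
    ((Submodule.mkQ ((m.map (algebraMap C A)) • (⊤ : Submodule A M))).restrictScalars C) z := by
  induction z using TensorProduct.induction_on with
  | zero => simp
  | tmul x j => simp [q]
  | add x y hx hy => simp [map_add, hx, hy]

lemma mem_smul_eq_zero {N : Type*} [AddCommGroup N] [Module A N] [Module C N] [IsScalarTower C A N]
    (hN : ∀ c ∈ m, ∀ z : N, c • z = 0) (f : M →ₗ[A] N) {y : M}
    (hy : y ∈ (m.map (algebraMap C A)) • (⊤ : Submodule A M)) : f y = 0 := by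
  refine Submodule.smul_induction_on hy ?_ (fun x y hx hy => by rw [map_add, hx, hy, add_zero])
  intro a ha x _
  induction ha using Submodule.span_induction with
  | mem b hb => obtain ⟨c, hc, rfl⟩ := hb; rw [map_smul, algebraMap_smul]; exact hN c hc _
  | zero => simp
  | add b c _ _ hb hc => rw [add_smul, map_add, hb, hc, add_zero]
  | smul r b _ hb => rw [smul_eq_mul, mul_smul, map_smul, hb, smul_zero]

lemma q_bijective (h : m * J = ⊥) : Function.Bijective (q A M J m) := by
  have hs : Function.Surjective (q A M J m) := by
    intro y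
    induction y using TensorProduct.induction_on with
    | zero => exact ⟨0, map_zero _⟩
    | tmul x j => obtain ⟨x, rfl⟩ := Submodule.mkQ_surjective _ x; exact ⟨x ⊗ₜ j, by simp [q]⟩
    | add x y hx hy => obtain ⟨a, rfl⟩ := hx; obtain ⟨b, rfl⟩ := hy; exact ⟨a + b, map_add _ _ _⟩
  refine ⟨?_, hs⟩
  let N : Submodule A M := (m.map (algebraMap C A)) • (⊤ : Submodule A M)
  let b : ↥J →ₗ[C] (M ⧸ N) →ₗ[C] M ⊗[C] ↥J :=
    { toFun := fun j => ((N.liftQ ((TensorProduct.AlgebraTensorModule.mk C A M ↥J).flip j)
        (fun y hy => mem_smul_eq_zero A M m (fun c hc z => smul_tensor_eq_zero M J m h hc z) _ hy))).restrictScalars C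
      map_add' := fun j j' => LinearMap.ext fun y => by
        obtain ⟨y, rfl⟩ := N.mkQ_surjective y
        exact TensorProduct.tmul_add y j j'
      map_smul' := fun c j => LinearMap.ext fun y => by
        obtain ⟨y, rfl⟩ := N.mkQ_surjective y
        exact TensorProduct.tmul_smul c y j }
  have hli : ∀ z, TensorProduct.lift b.flip (q A M J m z) = z := by
    intro z
    induction z using TensorProduct.induction_on with
    | zero => simp
    | tmul x j => rfl
    | add x y hx hy => rw [map_add, map_add, hx, hy]
  exact fun x y hxy => by rw [← hli x, ← hli y, hxy]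

end H9SmallExt
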